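import Cfsg.Agent.Lib.Helper33.KS.LDefs

set_option autoImplicit false

/-! # K-S farm, piece LP1 -/

namespace Cfsg.Agent.Lib.Helper2.KS

open Subgroup Cfsg.Agent.Lib.Helper33.KS
open Cfsg.Agent.Lib.Helper22 (conjS mem_conjS conjS_mem conjS_mul conjS_one conjS_eq_of_mem_normalizer)
open Cfsg.Agent.Lib.Helper48 (ZN MS)
open Cfsg.Agent.Lib.Helper55.KS (Ctx PClause P_struct)

universe u

variable {G : Type u} [Group G] [Finite G] {M T K L : Subgroup G}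

theorem relIndex_mul_card' {H K : Subgroup G} (h : H ≤ K) :
    H.relIndex K * Nat.card H = Nat.card K := by
  rw [← relIndex_bot_left, ← relIndex_bot_left, mul_comm]
  exact relIndex_mul_relIndex ⊥ H K bot_le h

/-- [LP1] -/
theorem pCoreOf_L_eq (c : Ctx M T K L) (hTL : T ≤ L) (hZ0 : ∀ t ∈ T, ∀ a ∈ Z0 T, t * a = a * t)
    (sd : SD T K) : Cfsg.pCoreOf 2 L = Cfsg.pCoreOf 2 (K ⊔ T) := by
  have hPL : K ⊔ T ≤ L := sup_le c.hKL hTL
  have h1 : Cfsg.pCoreOf 2 L ≤ Cfsg.pCoreOf 2 (K ⊔ T) := by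
    apply Cfsg.Agent.Lib.Helper49.le_pCoreOf
    · exact (Cfsg.Agent.Lib.Helper47.pCoreOf_le_of_isSylowIn (c.syl hTL)).trans le_sup_right
    · exact hPL.trans (Cfsg.Agent.Lib.Helper49.le_normalizer_pCoreOf 2 L)
    · exact Cfsg.Agent.Lib.Helper49.pCoreOf_isPGroup 2 L
  apply le_antisymm h1
  refine le_trans ?_ (c.mem hTL).2.2
  intro x hx
  rw [mem_centralizer_iff]
  intro y hy
  exact sd.ab y (h1 hy) x hx

theorem wOf_le_Q (c : Ctx M T K L) (hTL : T ≤ L) (hZ0 : ∀ t ∈ T, ∀ a ∈ Z0 T, t * a = a * t)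
    (sd : SD T K) : Cfsg.wOf K ≤ Cfsg.pCoreOf 2 (K ⊔ T) ∧
      (Nat.card (Cfsg.pCoreOf 2 (K ⊔ T)) = 4 ∨ Nat.card (Cfsg.pCoreOf 2 (K ⊔ T)) = 8) := by
  constructor
  · rw [← pCoreOf_L_eq c hTL hZ0 sd]
    exact (Cfsg.Agent.Lib.Helper48.JS.W_le_P K).trans
      (Cfsg.Agent.Lib.Helper48.pCoreOf_comp_le c.ms.zn c.ms.hT1 (c.mem hTL) c.hK c.hKL)
  · have ps := P_struct c hTL hZ0
    have h6 : (Cfsg.pCoreOf 2 (K ⊔ T)).relIndex (K ⊔ T) = 6 := ps.2.2.2.2.2.1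
    have h := relIndex_mul_card' (Cfsg.Agent.Lib.Helper49.pCoreOf_le 2 (K ⊔ T))
    rw [h6] at h
    rcases sd.card with h24 | h48
    · left; omega
    · right; omega

end Cfsg.Agent.Lib.Helper2.KS
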