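import Cfsg.Agent.Lib.Helper2.KS.LP1

set_option autoImplicit false

/-! # K-S farm, piece LP3 -/

namespace Cfsg.Agent.Lib.Helper2.KS

open Subgroup Cfsg.Agent.Lib.Helper33.KS
open Cfsg.Agent.Lib.Helper22 (conjS mem_conjS conjS_mem conjS_mul conjS_one conjS_eq_of_mem_normalizer)
open Cfsg.Agent.Lib.Helper48 (ZN MS)
open Cfsg.Agent.Lib.Helper55.KS (Ctx PClause P_struct)

universe u

variable {G : Type u} [Group G] [Finite G] {M T K L : Subgroup G}

/-- in a subgroup of relative index two, two elements outside differ by an element inside -/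
theorem inv_mul_mem_of_relIndex_two {W Q : Subgroup G} (h2 : W.relIndex Q = 2) {a b : G}
    (ha : a ∈ Q) (hb : b ∈ Q) (haW : a ∉ W) (hbW : b ∉ W) : a⁻¹ * b ∈ W := by
  have h := Subgroup.mul_mem_iff_of_index_two (H := W.subgroupOf Q) h2
    (a := (⟨a, ha⟩ : Q)⁻¹) (b := ⟨b, hb⟩)
  have h1 : ((⟨a, ha⟩ : Q)⁻¹ ∈ W.subgroupOf Q ↔ (⟨b, hb⟩ : Q) ∈ W.subgroupOf Q) := by
    rw [inv_mem_iff, mem_subgroupOf, mem_subgroupOf]
    exact ⟨fun h => absurd h haW, fun h => absurd h hbW⟩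
  have h3 := h.2 h1
  rw [mem_subgroupOf] at h3
  simpa using h3

/-- [LP3] -/
theorem cent_W_le (c : Ctx M T K L) (hTL : T ≤ L) (hZ0 : ∀ t ∈ T, ∀ a ∈ Z0 T, t * a = a * t)
    (sd : SD T K) : L ⊓ centralizer (Cfsg.wOf K : Set G) ≤ Cfsg.pCoreOf 2 (K ⊔ T) := by
  haveI : Fact (Nat.Prime 2) := ⟨Nat.prime_two⟩
  have ps := P_struct c hTL hZ0
  have hTK : T ≤ normalizer (K : Set G) := ps.1
  have hCQ : centralizer (Cfsg.pCoreOf 2 (K ⊔ T) : Set G) ≤ Cfsg.pCoreOf 2 (K ⊔ T) := ps.2.2.2.1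
  obtain ⟨hWQ, hcardQ⟩ := wOf_le_Q c hTL hZ0 sd
  have hQL := pCoreOf_L_eq c hTL hZ0 sd
  have hW4 : Nat.card (Cfsg.wOf K) = 4 := c.hK.2.2.2.2.1
  have hWe : ∀ w ∈ Cfsg.wOf K, w * w = 1 := c.hK.2.2.2.2.2
  have hLQ : L ≤ normalizer (Cfsg.pCoreOf 2 (K ⊔ T) : Set G) := by
    rw [← hQL]
    exact Cfsg.Agent.Lib.Helper49.le_normalizer_pCoreOf 2 L
  have hQ2 : IsPGroup 2 (Cfsg.pCoreOf 2 (K ⊔ T)) := Cfsg.Agent.Lib.Helper49.pCoreOf_isPGroup 2 _
  -- (1)
  have hsq : ∀ x ∈ L ⊓ centralizer (Cfsg.wOf K : Set G), x * x ∈ Cfsg.pCoreOf 2 (K ⊔ T) := by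
    intro x hx
    obtain ⟨hxL, hxC⟩ := mem_inf.1 hx
    rw [mem_centralizer_iff] at hxC
    rcases hcardQ with h4 | h8
    · have hEq : Cfsg.wOf K = Cfsg.pCoreOf 2 (K ⊔ T) :=
        Subgroup.eq_of_le_of_card_ge hWQ (by rw [h4, hW4])
      have : x ∈ Cfsg.pCoreOf 2 (K ⊔ T) := by
        apply hCQ
        rw [mem_centralizer_iff, ← hEq]
        exact hxC
      exact mul_mem this this
    · have hrel : (Cfsg.wOf K).relIndex (Cfsg.pCoreOf 2 (K ⊔ T)) = 2 := by
        have := relIndex_mul_card' hWQ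
        rw [hW4, h8] at this
        omega
      obtain ⟨q₀, hq₀Q, hq₀W⟩ : ∃ q₀ ∈ Cfsg.pCoreOf 2 (K ⊔ T), q₀ ∉ Cfsg.wOf K := by
        by_contra hcon
        push Not at hcon
        have : Cfsg.pCoreOf 2 (K ⊔ T) = Cfsg.wOf K := le_antisymm hcon hWQ
        rw [this, hW4] at h8
        omega
      have hxq : x * q₀ * x⁻¹ ∈ Cfsg.pCoreOf 2 (K ⊔ T) :=
        (mem_normalizer_iff.1 (hLQ hxL) q₀).1 hq₀Q
      have hxqW : x * q₀ * x⁻¹ ∉ Cfsg.wOf K := by
        intro h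
        apply hq₀W
        have h1 := hxC _ h
        -- (x q₀ x⁻¹) x = x (x q₀ x⁻¹)
        have h2 : q₀ = x * q₀ * x⁻¹ := by
          have : x * q₀ = x * (x * q₀ * x⁻¹) := by
            rw [← h1]; group
          exact mul_left_cancel this
        rw [h2]
        exact h
      have hu := inv_mul_mem_of_relIndex_two hrel hq₀Q hxq hq₀W hxqW
      set uu := q₀⁻¹ * (x * q₀ * x⁻¹) with huu
      have e1 : x * q₀ = q₀ * uu * x := by rw [huu]; group
      have e2 : uu * x = x * uu := hxC uu hu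
      have e3 : (x * x) * q₀ = q₀ * (x * x) := by
        calc (x * x) * q₀ = x * (x * q₀) := by rw [mul_assoc]
          _ = x * (q₀ * uu * x) := by rw [e1]
          _ = (x * q₀) * (uu * x) := by simp only [mul_assoc]
          _ = (q₀ * uu * x) * (x * uu) := by rw [e1, e2]
          _ = q₀ * (uu * x) * (x * uu) := by simp only [mul_assoc]
          _ = q₀ * (x * uu) * (x * uu) := by rw [e2]
          _ = q₀ * x * (uu * x) * uu := by simp only [mul_assoc]
          _ = q₀ * x * (x * uu) * uu := by rw [e2]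
          _ = q₀ * (x * x) * (uu * uu) := by simp only [mul_assoc]
          _ = q₀ * (x * x) := by rw [hWe uu hu, mul_one]
      apply hCQ
      rw [mem_centralizer_iff]
      intro y hy
      have hW' : ∀ w ∈ Cfsg.wOf K, w * (x * x) = (x * x) * w := by
        intro w hw
        have := hxC w hw
        calc w * (x * x) = (w * x) * x := by rw [mul_assoc]
          _ = x * (w * x) := by rw [this, mul_assoc, this]
          _ = (x * x) * w := by rw [this, mul_assoc]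
      by_cases hyW : y ∈ Cfsg.wOf K
      · exact hW' y hyW
      · have hw := inv_mul_mem_of_relIndex_two hrel hq₀Q hy hq₀W hyW
        have hy' : y = q₀ * (q₀⁻¹ * y) := by group
        rw [hy']
        calc q₀ * (q₀⁻¹ * y) * (x * x) = q₀ * ((q₀⁻¹ * y) * (x * x)) := by rw [mul_assoc]
          _ = q₀ * ((x * x) * (q₀⁻¹ * y)) := by rw [hW' _ hw]
          _ = (q₀ * (x * x)) * (q₀⁻¹ * y) := by simp only [mul_assoc]
          _ = ((x * x) * q₀) * (q₀⁻¹ * y) := by rw [e3]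
          _ = x * x * (q₀ * (q₀⁻¹ * y)) := by simp only [mul_assoc]
  -- (2)
  have hX2 : IsPGroup 2 (L ⊓ centralizer (Cfsg.wOf K : Set G) : Subgroup G) := by
    rintro ⟨x, hx⟩
    obtain ⟨k, hk⟩ := hQ2 ⟨x * x, hsq x hx⟩
    refine ⟨k + 1, ?_⟩
    apply Subtype.ext
    have h1 := congrArg Subtype.val hk
    simp only [Subgroup.coe_pow, Subgroup.coe_one] at h1 ⊢
    rw [pow_succ', pow_mul, pow_two]
    exact h1
  -- normalisation
  have hnorm : ∀ Y : Subgroup G, Y ≤ L → Y ≤ normalizer (K : Set G) →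
      Y ≤ normalizer ((L ⊓ centralizer (Cfsg.wOf K : Set G) : Subgroup G) : Set G) := by
    intro Y hYL hYK
    apply Cfsg.Agent.Lib.Helper62.le_normalizer_inf (hYL.trans le_normalizer)
    intro g hg
    exact Cfsg.Agent.Lib.Helper48.mem_normalizer_centralizer
      (Cfsg.Agent.Lib.Helper48.normalizer_le_normalizer_wOf K (hYK hg))
  -- (3)
  have hXT : L ⊓ centralizer (Cfsg.wOf K : Set G) ≤ T := by
    have h1 := Cfsg.Agent.Lib.Helper22.isPGroup_sup (hnorm T hTL hTK) hX2 c.ms.hT2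
    have h2 := (c.syl hTL).eq_of_le h1 le_sup_right (sup_le inf_le_left hTL)
    rw [← h2]
    exact le_sup_left
  -- (4)
  exact Cfsg.Agent.Lib.Helper49.le_pCoreOf (hXT.trans le_sup_right)
    (sup_le (hnorm K c.hKL le_normalizer) (hnorm T hTL hTK)) hX2

end Cfsg.Agent.Lib.Helper2.KS
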